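import Groth.Agent.Lib.Depth.Local
import Groth.Agent.Lib.Depth.CM
import Mathlib.RingTheory.Finiteness.Small

/-! Depth along `V(I)` versus regular sequences in `I`, any universe for the module. -/

universe u v w

open RingTheory.Sequence

namespace GrothLib.Depth17

theorem idealDepth_congr {R : Type u} [CommRing R] (J : Ideal R) {M : Type v} {N : Type w}
    [AddCommGroup M] [Module R M] [AddCommGroup N] [Module R N] (e : M ≃ₗ[R] N) :
    LocCoh.idealDepth J M = LocCoh.idealDepth J N := by
  have h1 : J • (⊤ : Submodule R M) = ⊤ ↔ J • (⊤ : Submodule R N) = ⊤ := by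
    have : (J • (⊤ : Submodule R M)).map e.toLinearMap = J • (⊤ : Submodule R N) := by
      rw [Submodule.map_smul'', Submodule.map_top, LinearEquiv.range]
    rw [← this]
    constructor
    · intro h; rw [h, Submodule.map_top, LinearEquiv.range]
    · intro h
      exact Submodule.map_injective_of_injective e.injective
        (by rw [h, Submodule.map_top, LinearEquiv.range])
  unfold LocCoh.idealDepth
  simp only [h1, e.isWeaklyRegular_congr]

theorem smul_top_ne_top_iff {A : Type u} [CommRing A] {M : Type u} [AddCommGroup M] [Module A M]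
    [Module.Finite A M] {I : Ideal A} (h : I • (⊤ : Submodule A M) ≠ ⊤) :
    ∃ p : PrimeSpectrum A, I ≤ p.asIdeal ∧
      Nontrivial (LocalizedModule p.asIdeal.primeCompl M) := by
  haveI : Nontrivial (M ⧸ (I • ⊤ : Submodule A M)) := Submodule.Quotient.nontrivial_iff.2 h
  obtain ⟨p, hp⟩ := Module.nonempty_support_of_nontrivial (R := A) (M := M ⧸ (I • ⊤ : Submodule A M))
  rw [Module.support_quotient] at hp
  exact ⟨p, hp.2, hp.1⟩

theorem depth_ge_iff {A : Type u} [CommRing A] [IsNoetherianRing A] {M : Type u} [AddCommGroup M]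
    [Module A M] [Module.Finite A M] (I : Ideal A) (r : ℕ) :
    (∀ (p : Ideal A) [p.IsPrime], I ≤ p →
        (r : ℕ∞) ≤ LocCoh.depth (Localization.AtPrime p) (LocalizedModule p.primeCompl M)) ↔
      ∃ fs : List A, fs.length = r ∧ (∀ f ∈ fs, f ∈ I) ∧ IsWeaklyRegular M fs := by
  by_cases hIM : I • (⊤ : Submodule A M) = ⊤
  · constructor
    · intro _
      obtain ⟨a, ha, ha'⟩ := Submodule.exists_sub_one_mem_and_smul_eq_zero_of_fg_of_le_smul I
        (⊤ : Submodule A M) Module.Finite.fg_top hIM.ge
      refine ⟨List.replicate r (1 - a), List.length_replicate, fun f hf => ?_, ?_⟩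
      · rw [List.eq_of_mem_replicate hf, ← neg_sub]
        exact I.neg_mem ha
      · have hid : ∀ x : M, (1 - a) • x = x := fun x => by
          rw [sub_smul, one_smul, ha' x Submodule.mem_top, sub_zero]
        rw [isWeaklyRegular_iff]
        intro i hi
        intro x y hxy
        simp only [List.getElem_replicate] at hxy
        obtain ⟨x, rfl⟩ := Submodule.Quotient.mk_surjective _ x
        obtain ⟨y, rfl⟩ := Submodule.Quotient.mk_surjective _ y
        simp only [← Submodule.Quotient.mk_smul, hid] at hxy
        exact hxy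
    · intro _ p hp hle
      have : Subsingleton (LocalizedModule p.primeCompl M) := by
        by_contra hns
        rw [not_subsingleton_iff_nontrivial] at hns
        have hmem : (⟨p, hp⟩ : PrimeSpectrum A) ∈ Module.support A (M ⧸ (I • ⊤ : Submodule A M)) := by
          rw [Module.support_quotient]
          exact ⟨hns, hle⟩
        rw [hIM] at hmem
        haveI : Subsingleton (M ⧸ (⊤ : Submodule A M)) := Submodule.Quotient.subsingleton_iff.2 rfl
        rw [Module.support_eq_empty] at hmem
        exact hmem
      haveI : IsNoetherianRing (Localization.AtPrime p) :=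
        IsLocalization.isNoetherianRing p.primeCompl _ inferInstance
      rw [GrothLib.Depth.depth_eq_top_of_subsingleton]
      exact le_top
  · obtain ⟨q, hq, hqM⟩ := smul_top_ne_top_iff hIM
    haveI : IsNoetherianRing (Localization.AtPrime q.asIdeal) :=
      IsLocalization.isNoetherianRing q.asIdeal.primeCompl _ inferInstance
    have hfin : LocCoh.idealDepth I M ≠ ⊤ := fun htop =>
      GrothLib.Depth.idealDepth_ne_top (Ideal.IsPrime.ne_top (IsLocalRing.maximalIdeal.isMaximal
        (Localization.AtPrime q.asIdeal)).isPrime)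
        (top_le_iff.1 (htop ▸ GrothLib.Depth.idealDepth_le_localization I q.asIdeal hq :
          ⊤ ≤ LocCoh.depth (Localization.AtPrime q.asIdeal) (LocalizedModule q.asIdeal.primeCompl M)))
    rw [← GrothLib.Depth.le_idealDepth_iff_exists I hIM r]
    constructor
    · intro h
      obtain ⟨n, hn⟩ := ENat.ne_top_iff_exists.1 hfin
      obtain ⟨p, hp, hle⟩ := GrothLib.Depth.exists_depth_localization_le I n hn.symm
      rw [← hn]
      exact (h p.asIdeal hp).trans hle
    · intro h p _ hp
      exact h.trans (GrothLib.Depth.idealDepth_le_localization I p hp)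

theorem depth_ge_iff' {A : Type u} [CommRing A] [IsNoetherianRing A] {M : Type v} [AddCommGroup M]
    [Module A M] [Module.Finite A M] (I : Ideal A) (r : ℕ) :
    (∀ (p : Ideal A) [p.IsPrime], I ≤ p →
        (r : ℕ∞) ≤ LocCoh.depth (Localization.AtPrime p) (LocalizedModule p.primeCompl M)) ↔
      ∃ fs : List A, fs.length = r ∧ (∀ f ∈ fs, f ∈ I) ∧ IsWeaklyRegular M fs := by
  haveI : Small.{u} M := Module.Finite.small.{u} A M
  let e : Shrink.{u} M ≃ₗ[A] M := Shrink.linearEquiv A M
  have hd : ∀ (p : Ideal A) [p.IsPrime],
      LocCoh.depth (Localization.AtPrime p) (LocalizedModule p.primeCompl M) =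
        LocCoh.depth (Localization.AtPrime p) (LocalizedModule p.primeCompl (Shrink.{u} M)) := fun p _ =>
    (idealDepth_congr _ (IsLocalizedModule.mapEquiv p.primeCompl
      (LocalizedModule.mkLinearMap p.primeCompl (Shrink.{u} M))
      (LocalizedModule.mkLinearMap p.primeCompl M) (Localization.AtPrime p) e)).symm
  simp only [hd, ← e.isWeaklyRegular_congr]
  exact depth_ge_iff I r

end GrothLib.Depth17
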